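import Cfsg.Agent.Gol.Conj

set_option autoImplicit false
set_option maxRecDepth 100000
set_option linter.all false

namespace Cfsg.Agent.Gol.O24
open Cfsg.Agent.CGT

def g_Ws : List (List ℕ) := [[0, 12, 6, 14, 0, 4, 2, 10, 2, 1, 4, 1], [1, 4, 14, 2, 10, 0, 2, 6, 4, 1], [12, 1, 6, 14, 8, 10, 8, 1, 12, 6, 0, 8, 2, 0], [4, 10, 0, 12, 8, 2, 10, 4, 1, 8, 1, 2, 4, 0], [2, 0, 12, 8, 0, 10, 0, 4, 6, 2, 0, 2, 4], [8, 6, 4, 10, 4, 1, 4, 6, 2, 0], [0, 4, 10, 1, 4, 8, 1, 4, 0], [1, 6, 1, 6, 2, 1], [2, 1, 2, 6, 2, 4, 0], [4, 8, 2, 0, 6, 1, 2, 4, 1], [6, 1, 6, 4, 1, 2, 0], [0, 6, 4, 0, 6, 2, 1], [1, 4, 1], [0, 4, 0], [4, 0, 2, 1], [0, 4, 0], [0, 4], [1], [0], [2], [4], [6], [8], [10], [12], [14]]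
theorem g_s0 : slpB 5 m24_ts (chainBase [] m24_ls) g_Ws [[5, 3, 3, 1, 3, 3], [0, 4, 0, 0, 0, 1, 0, 0, 4], [6, 9, 7, 6, 6, 8, 7, 6], [9, 6, 9, 7, 6, 6], [10, 10, 11, 13, 11], [10, 12, 11], [11, 11, 13, 13, 11, 11, 10, 11], [18, 18, 18, 18, 17], [19, 14, 19, 15, 16, 19, 15, 16, 17, 18], [23, 23, 21, 23, 22, 21, 22], [23, 21, 21, 23], [21, 22, 21, 21, 23, 20], [21, 21, 21, 20, 22, 21, 21, 22, 23], [21, 22, 21, 22, 22, 21, 22, 22], [25, 26, 27, 27, 24, 32], [35], [33, 28, 24], [33, 35], [22, 21, 22, 24, 28, 25, 35], [18, 18], [12, 15, 18, 15, 18, 20, 22, 20, 28, 24], [9, 6, 11, 13, 10, 21, 22, 32, 28, 25, 34], [1, 1, 8, 8, 7, 10, 10, 12, 15, 18, 15, 18, 20, 23, 21, 24, 28, 34]] 3 26 = true := by decide +kernel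
theorem g_top {G : Type*} [Group G] {φ : G →* Equiv.Perm ℕ} {γ : ℕ → G}
    (C : Cert φ γ 5 m24_ns m24_ts [0, 2, 4, 6, 8, 10, 12, 14] m24_ls) : gw γ (g_Ws.take 3) = ⊤ := by
  have h0 : SlpTo γ (gw γ (g_Ws.take 3)) g_Ws 3 := fun i hi =>
    ev_mem_gw γ (by interval_cases i <;> decide +kernel)
  rw [eq_top_iff, ← C.gen]
  exact SlpTo.gp_le (SlpTo.step C.M C.base (by decide +kernel) h0 g_s0) (by decide +kernel)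

end Cfsg.Agent.Gol.O24
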