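import Cfsg.Agent.Gol.O24.OutX
import Cfsg.Agent.Gol.O24.OutU
import Cfsg.Agent.Gol.O24.OutG
import Cfsg.Agent.CGT.Out2

set_option autoImplicit false
set_option maxRecDepth 100000
set_option linter.all false

namespace Cfsg.Agent.Gol.O24
open Cfsg.Agent.CGT

def od : OutD := ⟨5, m24_ts, (chainBase [] m24_ls), [0, 12, 6, 14, 0, 4, 2, 10, 2, 1, 4, 1], [1, 4, 14, 2, 10, 0, 2, 6, 4, 1], [12, 1, 6, 14, 8, 10, 8, 1, 12, 6, 0, 8, 2, 0], [1, 4, 14, 2, 10, 0, 2, 6, 4, 1], 23, 2, 1, 2, 10, [1, 5], [], [[2, 1, 2, 5, 2, 1, 2, 5, 2, 1, 2, 5, 2, 1, 2, 5]], [[[0, 12, 6, 14, 0, 4, 2, 10, 2, 1, 4, 1], [1, 4, 14, 2, 10, 0, 2, 6, 4, 1], [12, 1, 6, 14, 8, 10, 8, 1, 12, 6, 0, 8, 2, 0]]]⟩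
theorem od_b : od.basic 244823040 0 = true := by decide +kernel
theorem od_c : conjB 5 m24_ts (chainBase [] m24_ls) [12, 0, 6] od.u cu_S.u od.Cl cu_S.Cl = true := by decide +kernel
theorem od_k1 : od.cands 1 ([] :: od.Cl) [[0, 1, 1, 1, 1, 1, 1, 1, 1, 1, 513]] = true := by decide +kernel
theorem od_k5 : od.cands 5 ([] :: od.Cl) [[1, 1, 1, 1, 1, 513, 1, 1, 1, 1, 1]] = true := by decide +kernel
theorem out_card {G : Type*} [Group G] {φ : G →* Equiv.Perm ℕ} {γ : ℕ → G} (C : Cert φ γ 5 m24_ns m24_ts [0, 2, 4, 6, 8, 10, 12, 14] m24_ls)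
    (hN : Nat.card G = 244823040) : Nat.card (Cfsg.Out G) = 1 :=
  haveI := C.fin
  OutD.out_one (D := od) C.M C.base hN (by norm_num [od]) od_b (cx_cent C) ((cu_cent C).conj C.M C.base od_c)
    (by
    intro k hk
    simp only [od, List.mem_cons, List.not_mem_nil, or_false] at hk
    rcases hk with rfl | rfl
    exacts [OutD.cands_sound C.M C.base od_b od_k1, OutD.cands_sound C.M C.base od_b od_k5]) (g_top C) rfl
theorem out_eq : Nat.card (Cfsg.Out Cfsg.M24) = 1 := out_card m24_cert m24_card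

end Cfsg.Agent.Gol.O24
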